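import Mathlib
import Cfsg.Agent.H586.GW.HerSolv
import Cfsg.Agent.H501.LinTrans

/-!
# Transitive linear `3'`-groups over the field with two elements; 2-transitive `3'`-groups of even degree with a regular
normal subgroup
-/

set_option autoImplicit false
set_option linter.style.haveILetI false

namespace Cfsg.Agent.H430.Reg

open Cfsg.Agent.H586.GW MulAction

universe u

/-- a transitive linear `3'`-group over `F_2` is one-dimensional semilinear -/
theorem card_linear {V : Type u} [AddCommGroup V] [Finite V] [Nontrivial V] (hexp : ∀ v : V, 2 • v = 0)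
    (H : Subgroup (Equiv.Perm V)) (hadd : ∀ h ∈ H, ∀ v w : V, h (v + w) = h v + h w)
    (htr : ∀ v w : V, v ≠ 0 → w ≠ 0 → ∃ h ∈ H, h v = w) (h3 : ¬ 3 ∣ Nat.card H) :
    ∃ n : ℕ, n ≠ 0 ∧ Nat.card V = 2 ^ n ∧ Nat.card H ∣ n * (2 ^ n - 1) := by
  haveI : Fact (Nat.Prime 2) := ⟨Nat.prime_two⟩
  letI : Module (ZMod 2) V := AddCommGroup.zmodModule hexp
  letI : DistribMulAction H V :=
    { smul := fun g v => (g : Equiv.Perm V) v
      one_smul := fun v => rfl
      mul_smul := fun g h v => rfl
      smul_zero := by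
        rintro ⟨g, hg⟩
        have h1 := hadd g hg 0 0
        rw [add_zero] at h1
        change g 0 = 0
        exact left_eq_add.1 h1
      smul_add := by
        rintro ⟨g, hg⟩ v w
        exact hadd g hg v w }
  have hcard : Nat.card V = 2 ^ Module.finrank (ZMod 2) V := by
    exact Cfsg.Agent.H50.Her.card_space (p := 2) (V := V)
  have hsub : Nat.card V - 1 ∣ Nat.card H := by
    have h1 := Cfsg.Agent.H586.GW.card_sub_one_dvd (G := H) (V := V) ⊤ (by
      intro v w hv hw
      obtain ⟨h, hh, hv⟩ := htr v w hv hw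
      exact ⟨⟨h, hh⟩, Subgroup.mem_top _, hv⟩)
    rwa [Subgroup.card_top] at h1
  have heven : 2 ∣ Module.finrank (ZMod 2) V → False := by
    intro hn
    apply h3
    refine (three_dvd_of_even Nat.prime_two (by norm_num) hn).trans ?_
    rw [← hcard]
    exact hsub
  have hsl : ∀ (a : ℕ) (F : Type) [Field F] [Finite F] (N : Subgroup H), 2 ≤ a →
      Nonempty (N ≃* Matrix.SpecialLinearGroup (Fin a) F) → False := by
    rintro a F _ _ N ha ⟨e⟩
    apply h3
    refine Dvd.dvd.trans ?_ (Subgroup.card_subgroup_dvd_card N)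
    rw [Nat.card_congr e.toEquiv]
    exact three_dvd_SL F ha
  have hfin : 1 ≤ Module.finrank (ZMod 2) V := by
    by_contra hcon
    have h1 : Module.finrank (ZMod 2) V = 0 := by omega
    rw [h1, pow_zero] at hcard
    exact absurd hcard (Finite.one_lt_card (α := V)).ne'
  have hlin : ∀ h ∈ H, ∀ (c : ZMod 2) (v : V), h (c • v) = c • h v := by
    intro h hh c v
    have h0 : h 0 = 0 := by
      have h1 := hadd h hh 0 0
      rw [add_zero] at h1
      exact left_eq_add.1 h1
    let f : V →+ V :=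
      { toFun := h
        map_zero' := h0
        map_add' := hadd h hh }
    exact (f.toZModLinearMap 2).map_smul c v
  rcases Cfsg.Agent.S3695.result (K := ZMod 2) (V := V) 2 (Module.finrank (ZMod 2) V) (ZMod.card 2) rfl hfin H hadd
    (fun h hh => ⟨RingEquiv.refl _, fun c v => hlin h hh c v⟩)
    (fun v w hv hw => by
      obtain ⟨h, hh, hv⟩ := htr v w hv hw
      exact ⟨h, hh, 1, by rw [one_smul]; exact hv⟩) with
    ⟨a, b, F, _, _, hab, hF, N, -, h⟩ | ⟨F, _, _, e, hcF, h⟩ | ⟨hn, hq, -⟩ | ⟨hn, hq, N, -, h⟩ | ⟨hn, hq, -⟩ |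
    ⟨hn, hq, -⟩ | ⟨-, hq, h⟩
  · exfalso
    rcases h with ⟨ha, h⟩ | ⟨m, rfl, hm, ⟨e⟩⟩ | ⟨rfl, hq, -⟩ | ⟨rfl, hF2, -⟩
    · exact hsl a F N ha h
    · exact heven ⟨m * b, by rw [← hab]; ring⟩
    · exact heven ⟨3 * b, by rw [← hab]; ring⟩
    · exact heven ⟨3 * b, by rw [← hab]; ring⟩
  · refine ⟨Module.finrank (ZMod 2) V, by omega, hcard, ?_⟩
    have hn0 : Module.finrank (ZMod 2) V ≠ 0 := by omega
    letI : Fintype (GaloisField 2 (Module.finrank (ZMod 2) V)) := Fintype.ofFinite _
    have hc2 : Fintype.card F = Fintype.card (GaloisField 2 (Module.finrank (ZMod 2) V)) := by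
      rw [hcF, ← Nat.card_eq_fintype_card, GaloisField.card 2 _ hn0]
    let ι : F ≃+* GaloisField 2 (Module.finrank (ZMod 2) V) := FiniteField.ringEquivOfCardEq hc2
    haveI : FaithfulSMul H V := ⟨fun {s t} hst => Subtype.ext (Equiv.ext fun v => hst v)⟩
    refine Cfsg.Agent.H501.LinTrans.card_dvd_of_semilinear (V := V) (S := H) (p := 2) hn0 (e.trans ι.toAddEquiv) ?_
    rintro ⟨s, hs⟩
    obtain ⟨c, σ, hc⟩ := h s hs
    have hc0 : c ≠ 0 := by
      rintro rfl
      have h1 := hc (s⁻¹ (e.symm 1))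
      rw [app_inv, e.apply_symm_apply, zero_mul] at h1
      exact one_ne_zero h1
    refine ⟨Units.mk0 (ι c) (fun h0 => hc0 (ι.injective (by rw [h0, map_zero]))), (ι.symm.trans σ).trans ι, fun v => ?_⟩
    change ι (e (s v)) = ι c * ι (σ (ι.symm (ι (e v))))
    rw [hc v, map_mul, RingEquiv.symm_apply_apply]
  · omega
  · omega
  · exact (heven (by rw [hn]; norm_num)).elim
  · omega
  · omega

section Reg

variable {G Ω : Type u} [Group G] [Finite G] [Fintype Ω] [MulAction G Ω] [FaithfulSMul G Ω]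

/-- a 2-transitive `3'`-group of even degree with a regular normal subgroup -/
theorem regular_case (h2 : IsMultiplyPretransitive G Ω 2) (N : Subgroup G) [hNn : N.Normal]
    (hNt : IsPretransitive N Ω) (hNr : ∀ a : Ω, stabilizer N a = ⊥) (hev : Even (Fintype.card Ω)) (hpos : 2 ≤ Fintype.card Ω)
    (h3 : ¬ 3 ∣ Nat.card G) :
    ∃ n : ℕ, Fintype.card Ω = 2 ^ n ∧ Nat.card G ∣ 2 ^ n * (n * (2 ^ n - 1)) := by
  classical
  obtain ⟨a, b0, hab0⟩ : ∃ a b : Ω, a ≠ b := by
    have := Fintype.one_lt_card_iff.1 (show 1 < Fintype.card Ω by omega)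
    obtain ⟨a, b, h⟩ := this
    exact ⟨a, b, h⟩
  have hreg : ∀ x y : N, x • a = y • a → x = y := by
    intro x y h
    have h1 : y⁻¹ * x ∈ stabilizer N a := by
      rw [mem_stabilizer_iff, mul_smul, h, inv_smul_smul]
    rw [hNr a, Subgroup.mem_bot] at h1
    rw [inv_mul_eq_one] at h1
    exact h1.symm
  have hcN : Nat.card N = Fintype.card Ω := by
    have h1 := MulAction.index_stabilizer_of_transitive N a
    rw [hNr a, Subgroup.index_bot, Nat.card_eq_fintype_card (α := Ω)] at h1
    exact h1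
  have htr : ∀ {a b c d : Ω}, a ≠ b → c ≠ d → ∃ g : G, g • a = c ∧ g • b = d :=
    (is_two_pretransitive_iff (G := G) (α := Ω)).1 h2
  -- the stabiliser of `a` is transitive on `N - 1`
  have hconj : ∀ x y : N, x ≠ 1 → y ≠ 1 → ∃ h ∈ stabilizer G a, h * (x : G) * h⁻¹ = y := by
    intro x y hx hy
    have hxa : a ≠ x • a := fun h => hx (hreg x 1 (by rw [one_smul]; exact h.symm))
    have hya : a ≠ y • a := fun h => hy (hreg y 1 (by rw [one_smul]; exact h.symm))
    obtain ⟨h, h1, h2⟩ := htr hxa hya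
    refine ⟨h, h1, ?_⟩
    have h4 : h * (x : G) * h⁻¹ ∈ N := hNn.conj_mem x x.2 h
    have h5 : (⟨h * (x : G) * h⁻¹, h4⟩ : N) = y := by
      apply hreg
      change (h * (x : G) * h⁻¹) • a = y • a
      rw [mul_smul, mul_smul]
      have h6 : h⁻¹ • a = a := by rw [inv_smul_eq_iff, h1]
      rw [h6]
      exact h2
    exact congrArg Subtype.val h5
  haveI : Fact (Nat.Prime 2) := ⟨Nat.prime_two⟩
  obtain ⟨z, hz⟩ := exists_prime_orderOf_dvd_card' (G := N) 2 (by rw [hcN]; exact hev.two_dvd)
  have hz1 : z ≠ 1 := fun h => by rw [h, orderOf_one] at hz; omega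
  have hsq : ∀ x : N, x * x = 1 := by
    intro x
    by_cases hx : x = 1
    · rw [hx, mul_one]
    · obtain ⟨h, -, hh⟩ := hconj z x hz1 hx
      have hzz : z * z = 1 := by rw [← pow_two, ← hz, pow_orderOf_eq_one]
      apply Subtype.ext
      change (x : G) * x = 1
      have hzz' : (z : G) * z = 1 := congrArg Subtype.val hzz
      rw [← hh]
      calc h * (z : G) * h⁻¹ * (h * (z : G) * h⁻¹) = h * ((z : G) * z) * h⁻¹ := by group
        _ = 1 := by rw [hzz']; group
  have hcomm : ∀ x y : N, x * y = y * x := by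
    intro x y
    have hx := hsq x
    have hy := hsq y
    have hxy := hsq (x * y)
    have hx' : x⁻¹ = x := inv_eq_of_mul_eq_one_left hx
    have hy' : y⁻¹ = y := inv_eq_of_mul_eq_one_left hy
    have hxy' : (x * y)⁻¹ = x * y := inv_eq_of_mul_eq_one_left hxy
    rw [← hxy', mul_inv_rev, hx', hy']
  letI : CommGroup N := { (inferInstance : Group N) with mul_comm := hcomm }
  let φ : stabilizer G a →* Equiv.Perm (Additive N) :=
    { toFun := fun h => (MulEquiv.toAdditive (MulAut.conjNormal (H := N) (h : G))).toEquiv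
      map_one' := by
        apply Equiv.ext
        intro v
        change Additive.ofMul ((MulAut.conjNormal (H := N) ((1 : stabilizer G a) : G)) v.toMul) = v
        rw [Subgroup.coe_one, map_one]
        rfl
      map_mul' := by
        intro h k
        apply Equiv.ext
        intro v
        change Additive.ofMul ((MulAut.conjNormal (H := N) ((h * k : stabilizer G a) : G)) v.toMul) = _
        rw [Subgroup.coe_mul, map_mul]
        rfl }
  have hφ : ∀ (h : stabilizer G a) (v : Additive N), φ h v = Additive.ofMul ((MulAut.conjNormal (H := N) (h : G)) v.toMul) :=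
    fun h v => rfl
  have hφinj : Function.Injective φ := by
    rw [injective_iff_map_eq_one]
    intro h hh
    apply Subtype.ext
    apply FaithfulSMul.eq_of_smul_eq_smul (M := G) (α := Ω)
    intro x
    obtain ⟨v, rfl⟩ := hNt.exists_smul_eq a x
    have h1 : φ h (Additive.ofMul v) = Additive.ofMul v := by rw [hh]; rfl
    rw [hφ] at h1
    have h2 : MulAut.conjNormal (H := N) (h : G) v = v := Additive.ofMul.injective h1
    have h3 : (h : G) * (v : G) * (h : G)⁻¹ = v := by
      have := congrArg Subtype.val h2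
      rwa [MulAut.conjNormal_apply] at this
    have ha : (h : G) • a = a := h.2
    change (h : G) • ((v : G) • a) = (1 : G) • ((v : G) • a)
    rw [one_smul, ← mul_smul]
    have h4 : (h : G) * v = v * h := mul_inv_eq_iff_eq_mul.1 h3
    rw [h4, mul_smul, ha]
  haveI : Nontrivial (Additive N) := ⟨⟨Additive.ofMul z, 0, fun h => hz1 (Additive.ofMul.injective h)⟩⟩
  obtain ⟨n, hn0, hcV, hdvd⟩ := card_linear (V := Additive N) (by
      intro v
      change Additive.ofMul (v.toMul ^ 2) = 0
      rw [pow_two, hsq]; rfl) φ.range (by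
      rintro _ ⟨h, rfl⟩ v w
      rw [hφ, hφ, hφ]
      change Additive.ofMul ((MulAut.conjNormal (H := N) (h : G)) (v.toMul * w.toMul)) = _
      rw [map_mul]; rfl) (by
      intro v w hv hw
      obtain ⟨h, hh, he⟩ := hconj v.toMul w.toMul (fun h0 => hv (Additive.toMul.injective h0))
        (fun h0 => hw (Additive.toMul.injective h0))
      refine ⟨φ ⟨h, hh⟩, ⟨⟨h, hh⟩, rfl⟩, ?_⟩
      rw [hφ]
      apply Additive.toMul.injective
      apply Subtype.ext
      rw [toMul_ofMul, MulAut.conjNormal_apply]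
      exact he) (by
      intro h
      apply h3
      refine h.trans ?_
      rw [← Nat.card_congr (MonoidHom.ofInjective hφinj).toEquiv]
      exact Subgroup.card_subgroup_dvd_card _)
  have hcV' : Fintype.card Ω = 2 ^ n := by
    rw [← hcV, ← hcN]; rfl
  refine ⟨n, hcV', ?_⟩
  have hst : Nat.card (stabilizer G a) ∣ n * (2 ^ n - 1) := by
    rw [Nat.card_congr (MonoidHom.ofInjective hφinj).toEquiv]
    exact hdvd
  have hGt : IsPretransitive G Ω := isPretransitive_of_is_two_pretransitive (h2 := h2)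
  have h1 := Subgroup.card_mul_index (stabilizer G a)
  rw [MulAction.index_stabilizer_of_transitive G a, Nat.card_eq_fintype_card (α := Ω), hcV'] at h1
  rw [← h1, mul_comm]
  exact Nat.mul_dvd_mul_left _ hst

end Reg

end Cfsg.Agent.H430.Reg
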