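import Mathlib

/-!
# S3691, alternating socle, Case I: groups regular on the `k`-subsets (elementary part)
-/

set_option autoImplicit false
set_option linter.unusedSectionVars false

namespace Cfsg.Agent.H430.Reg

open Equiv MulAction
open scoped Pointwise

universe u

variable {Ω : Type u} [Fintype Ω] [DecidableEq Ω] {k : ℕ}

theorem smul_eq_map (b : Perm Ω) (s : Finset Ω) : b • s = s.map b.toEmbedding := by
  ext x
  simp only [Finset.mem_map, Finset.mem_smul_finset, Equiv.coe_toEmbedding, Perm.smul_def]

/-- a group of order `C(m, k)` acting freely on the `k`-sets is transitive on them -/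
theorem trans_of_free (hk : k ≤ Fintype.card Ω) (B : Subgroup (Perm Ω))
    (hcard : Nat.card B = (Fintype.card Ω).choose k)
    (hfree : ∀ b ∈ B, ∀ s : Finset Ω, s.card = k → s.map b.toEmbedding = s → b = 1) :
    IsPretransitive B (Set.powersetCard Ω k) := by
  classical
  have hX : Nat.card (Set.powersetCard Ω k) = (Fintype.card Ω).choose k := by
    rw [Set.powersetCard.card, Nat.card_eq_fintype_card]
  obtain ⟨s0, -, hs0⟩ := Finset.exists_subset_card_eq (s := (Finset.univ : Finset Ω)) (n := k) (by simpa using hk)
  let x0 : Set.powersetCard Ω k := ⟨s0, hs0⟩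
  have hst : stabilizer B x0 = ⊥ := by
    rw [eq_bot_iff]
    intro b hb
    rw [mem_stabilizer_iff] at hb
    have h1 : (b : Perm Ω) • s0 = s0 := by
      have h0 := congrArg (fun x : Set.powersetCard Ω k => (x : Finset Ω)) hb
      exact h0
    have h2 : s0.map (b : Perm Ω).toEmbedding = s0 := by
      rw [← smul_eq_map]
      exact h1
    rw [Subgroup.mem_bot]
    exact Subtype.ext (hfree b b.2 s0 hs0 h2)
  have horb : Nat.card (orbit B x0) = Nat.card (Set.powersetCard Ω k) := by
    have h1 := Subgroup.card_mul_index (stabilizer B x0)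
    rw [hst, Subgroup.card_bot, one_mul, Subgroup.index_bot, hcard] at h1
    have h2 : Nat.card (orbit B x0) = Nat.card B := by
      rw [← Nat.card_congr (orbitEquivQuotientStabilizer B x0).symm, hst]
      exact (Nat.card_congr (QuotientGroup.quotientBot (G := B)).toEquiv)
    rw [h2, hcard, hX]
  have huniv : orbit B x0 = Set.univ := by
    have hfin : Finite (Set.powersetCard Ω k) := inferInstance
    apply Set.eq_of_subset_of_ncard_le (Set.subset_univ _)
    · rw [Set.ncard_univ, ← horb]; exact le_rfl
  rw [isPretransitive_iff_orbit_eq_univ x0]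
  exact huniv

/-- an involution with a fixed point stabilises a set of every size -/
theorem exists_inv_set {t : Perm Ω} (ht : ∀ x, t (t x) = x) {z : Ω} (hz : t z = z) :
    ∀ k : ℕ, k ≤ Fintype.card Ω → ∃ s : Finset Ω, s.card = k ∧ ∀ x ∈ s, t x ∈ s := by
  intro k
  induction k with
  | zero => intro _; exact ⟨∅, rfl, fun x hx => absurd hx (Finset.notMem_empty x)⟩
  | succ k ih =>
    intro hk
    obtain ⟨s, hs, hinv⟩ := ih (by omega)
    by_cases h : ∃ y, y ∉ s ∧ t y = y
    · obtain ⟨y, hy, hty⟩ := h
      refine ⟨insert y s, by rw [Finset.card_insert_of_notMem hy, hs], ?_⟩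
      intro x hx
      rcases Finset.mem_insert.1 hx with rfl | hx
      · rw [hty]; exact Finset.mem_insert_self _ _
      · exact Finset.mem_insert_of_mem (hinv x hx)
    · push Not at h
      have hzs : z ∈ s := by
        by_contra hzs
        exact h z hzs hz
      obtain ⟨y, hy⟩ : ∃ y, y ∉ s := by
        by_contra hcon
        push Not at hcon
        have : s = Finset.univ := Finset.eq_univ_iff_forall.2 hcon
        rw [this, Finset.card_univ] at hs
        omega
      have hty : t y ∉ s := by
        intro hts
        have := hinv _ hts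
        rw [ht] at this
        exact hy this
      have hne : t y ≠ y := h y hy
      have hyz : y ≠ z := fun e => hy (e ▸ hzs)
      have htyz : t y ≠ z := fun e => hty (e ▸ hzs)
      refine ⟨insert y (insert (t y) (s.erase z)), ?_, ?_⟩
      · have h1 : t y ∉ s.erase z := fun hh => hty (Finset.mem_of_mem_erase hh)
        have h2 : y ∉ insert (t y) (s.erase z) := by
          rw [Finset.mem_insert]
          rintro (e | e)
          · exact hne e.symm
          · exact hy (Finset.mem_of_mem_erase e)
        rw [Finset.card_insert_of_notMem h2, Finset.card_insert_of_notMem h1, Finset.card_erase_of_mem hzs, hs]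
        have : 0 < s.card := Finset.card_pos.2 ⟨z, hzs⟩
        omega
      · intro x hx
        rw [Finset.mem_insert, Finset.mem_insert, Finset.mem_erase] at hx ⊢
        rcases hx with rfl | rfl | ⟨hxz, hxs⟩
        · exact Or.inr (Or.inl rfl)
        · exact Or.inl (ht y)
        · refine Or.inr (Or.inr ⟨?_, hinv x hxs⟩)
          intro e
          apply hxz
          rw [← ht x, e, hz]

theorem map_eq_of_forall {t : Perm Ω} {s : Finset Ω} (h : ∀ x ∈ s, t x ∈ s) : s.map t.toEmbedding = s := by
  apply Finset.eq_of_subset_of_card_le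
  · intro y hy
    obtain ⟨x, hx, rfl⟩ := Finset.mem_map.1 hy
    exact h x hx
  · rw [Finset.card_map]

/-- no involution of `B` fixes a point -/
theorem no_fixed (hk : k ≤ Fintype.card Ω) (B : Subgroup (Perm Ω))
    (hfree : ∀ b ∈ B, ∀ s : Finset Ω, s.card = k → s.map b.toEmbedding = s → b = 1)
    {t : Perm Ω} (htB : t ∈ B) (ht1 : t ≠ 1) (ht : ∀ x, t (t x) = x) (z : Ω) : t z ≠ z := by
  intro hz
  obtain ⟨s, hs, hinv⟩ := exists_inv_set ht hz k hk
  exact ht1 (hfree t htB s hs (map_eq_of_forall hinv))

/-- an element which swaps two points has a power which is an involution -/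
theorem exists_invol {b : Perm Ω} {x y : Ω} (hxy : x ≠ y) (h1 : b x = y) (h2 : b y = x) :
    ∃ n : ℕ, b ^ n ≠ 1 ∧ ∀ w, (b ^ n) ((b ^ n) w) = w := by
  have hev : 2 ∣ orderOf b := by
    have hpow : ∀ n : ℕ, (b ^ (2 * n)) x = x := by
      intro n
      induction n with
      | zero => simp
      | succ n ih =>
        rw [show 2 * (n + 1) = 2 * n + 1 + 1 by ring, pow_succ, pow_succ, Perm.mul_apply, Perm.mul_apply, h1, h2, ih]
    by_contra hodd
    obtain ⟨n, hn⟩ : ∃ n, orderOf b = 2 * n + 1 := ⟨orderOf b / 2, by omega⟩
    have h3 : (b ^ (2 * n + 1)) y = y := by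
      rw [← hn, pow_orderOf_eq_one]; rfl
    rw [pow_succ, Perm.mul_apply, h2, hpow n] at h3
    exact hxy h3
  obtain ⟨n, hn⟩ := hev
  have hpos : 0 < orderOf b := orderOf_pos b
  refine ⟨n, ?_, ?_⟩
  · intro h
    have := orderOf_dvd_of_pow_eq_one h
    have hle := Nat.le_of_dvd (by omega) this
    omega
  · intro w
    rw [← Perm.mul_apply, ← pow_add, ← two_mul, ← hn, pow_orderOf_eq_one]
    rfl

end Cfsg.Agent.H430.Reg
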