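import Mathlib
import Cfsg.Prelude.Def_LieExceptional
import Cfsg.Agent.H430.Reg.Basic
import Cfsg.Agent.H430.Reg.Aff
import Cfsg.Agent.H454.Reg.Defs
import Cfsg.Agent.H968.TwoBasic
import Cfsg.Agent.LieExceptional.ZassenhausKernel
import Cfsg.Agent.S0885
import Cfsg.Agent.S0746
import Cfsg.Agent.S0737

/-!
# S3691, alternating socle, Case I: a group acting regularly on the `k`-subsets of `Ω`

* `k = 2` : the group is a group of semiaffine maps of a field with `q` elements, `q % 4 = 3` (S0737);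
* `k = 3` : the degree is at most `32`;
* `k ≥ 4` : impossible.
-/

set_option autoImplicit false
set_option linter.style.haveILetI false
set_option linter.unusedSectionVars false

namespace Cfsg.Agent.H430.Reg

open Equiv MulAction
open scoped Pointwise

universe u

variable {Ω : Type u} [Fintype Ω] [DecidableEq Ω]

theorem case_two (hm : 30 ≤ Fintype.card Ω) (B : Subgroup (Perm Ω))
    (hcard : Nat.card B = (Fintype.card Ω).choose 2)
    (hfree : ∀ b ∈ B, ∀ s : Finset Ω, s.card = 2 → s.map b.toEmbedding = s → b = 1) :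
    Cfsg.Agent.H454.Reg.Concl B := by
  classical
  have h2card : 2 * Nat.card B = Fintype.card Ω * (Fintype.card Ω - 1) := by
    rw [hcard, Nat.choose_two_right]
    exact Nat.mul_div_cancel' (Nat.even_mul_pred_self _).two_dvd
  have hne : B ≠ ⊥ := by
    rintro rfl
    rw [Subgroup.card_bot] at h2card
    have h1 : 30 * 29 ≤ Fintype.card Ω * (Fintype.card Ω - 1) := Nat.mul_le_mul hm (by omega)
    omega
  have htr := trans_of_free (by omega : 2 ≤ Fintype.card Ω) B hcard hfree
  have hn2 : ¬ IsMultiplyPretransitive B Ω 2 := by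
    intro h2
    obtain ⟨x, y, hxy⟩ : ∃ x y : Ω, x ≠ y := Fintype.one_lt_card_iff.1 (by omega)
    have ht : ∀ {a b c d : Ω}, a ≠ b → c ≠ d → ∃ g : B, g • a = c ∧ g • b = d :=
      (is_two_pretransitive_iff (G := B) (α := Ω)).1 h2
    obtain ⟨⟨b, hb⟩, h1, h2⟩ := ht hxy hxy.symm
    change b x = y at h1
    change b y = x at h2
    have h3 := hfree b hb {x, y} (Finset.card_pair hxy) (map_eq_of_forall (by
      intro w hw
      rcases Finset.mem_insert.1 hw with rfl | hw
      · rw [h1]; exact Finset.mem_insert_of_mem (Finset.mem_singleton_self _)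
      · rw [Finset.mem_singleton.1 hw, h2]; exact Finset.mem_insert_self _ _))
    rw [h3] at h1
    exact hxy h1
  obtain ⟨-, p, f, hp, hp2, hcΩ, hmod, e, hsemi, -⟩ := Cfsg.Agent.S0737.result B hne htr hn2
  letI : Fintype (GaloisField p f) := Fintype.ofFinite _
  have hcF : Fintype.card (GaloisField p f) = Fintype.card Ω := (Fintype.card_congr e).symm
  refine Or.inr (Or.inl ⟨GaloisField p f, inferInstance, inferInstance, ?_, ?_,
    e.permCongrHom.toMonoidHom.comp B.subtype, ?_, ?_⟩)
  · rw [hcF, hcΩ]; exact hmod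
  · rw [hcF]; exact h2card
  · exact e.permCongrHom.injective.comp B.subtype_injective
  · rintro _ ⟨g, rfl⟩
    exact hsemi g

theorem case_four {k : ℕ} (hk : 4 ≤ k) (h2k : 2 * k < Fintype.card Ω) (B : Subgroup (Perm Ω))
    (hcard : Nat.card B = (Fintype.card Ω).choose k)
    (hfree : ∀ b ∈ B, ∀ s : Finset Ω, s.card = k → s.map b.toEmbedding = s → b = 1) : False := by
  classical
  have htr := trans_of_free (by omega : k ≤ Fintype.card Ω) B hcard hfree
  have h1 : IsMultiplyPretransitive B Ω (k - 1) := Cfsg.Agent.S0746.result B (by omega) (by omega) htr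
  have h3 : IsMultiplyPretransitive B Ω 3 :=
    isMultiplyPretransitive_of_le (n := k - 1) (by omega) (by rw [Nat.card_eq_fintype_card]; omega)
  obtain ⟨e⟩ : Nonempty (Fin 3 ↪ Ω) := Function.Embedding.nonempty_of_card_le (by rw [Fintype.card_fin]; omega)
  obtain ⟨⟨b, hb⟩, hbe⟩ := h3.exists_smul_eq e ((Equiv.swap (0 : Fin 3) 1).toEmbedding.trans e)
  have hbe' : ∀ i : Fin 3, b (e i) = e (Equiv.swap (0 : Fin 3) 1 i) := fun i => DFunLike.congr_fun hbe i
  have h0 : b (e 0) = e 1 := by rw [hbe' 0, Equiv.swap_apply_left]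
  have h1 : b (e 1) = e 0 := by rw [hbe' 1, Equiv.swap_apply_right]
  have h2 : b (e 2) = e 2 := by
    rw [hbe' 2, Equiv.swap_apply_of_ne_of_ne (by decide) (by decide)]
  obtain ⟨n, hn1, hn⟩ := exists_invol (e.injective.ne (by decide : (0 : Fin 3) ≠ 1)) h0 h1
  refine no_fixed (by omega : k ≤ Fintype.card Ω) B hfree (B.pow_mem hb n) hn1 hn (e 2) ?_
  clear hn1 hn
  induction n with
  | zero => rfl
  | succ n ih => rw [pow_succ, Perm.mul_apply, h2, ih]

/-- `3` does not divide the order of `B` -/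
theorem not_three_dvd (B : Subgroup (Perm Ω))
    (hfree : ∀ b ∈ B, ∀ s : Finset Ω, s.card = 3 → s.map b.toEmbedding = s → b = 1) : ¬ 3 ∣ Nat.card B := by
  intro h3
  haveI : Fact (Nat.Prime 3) := ⟨Nat.prime_three⟩
  obtain ⟨⟨c, hc⟩, ho⟩ := exists_prime_orderOf_dvd_card' (G := B) 3 h3
  have hc3 : ∀ x, c (c (c x)) = x := by
    intro x
    have h1 : (⟨c, hc⟩ : B) ^ 3 = 1 := by rw [← ho, pow_orderOf_eq_one]
    have h2 : c ^ 3 = 1 := congrArg Subtype.val h1
    have h3 : (c ^ 3) x = x := by rw [h2]; rfl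
    exact h3
  have hc1 : c ≠ 1 := by
    rintro rfl
    have : orderOf (1 : B) = 3 := ho
    rw [orderOf_one] at this
    omega
  apply hc1
  obtain ⟨x, hx⟩ : ∃ x, c x ≠ x := by
    by_contra hcon
    push Not at hcon
    exact hc1 (Equiv.ext hcon)
  have h1 : c (c x) ≠ x := by
    intro h
    have h2 := hc3 x
    rw [h] at h2
    exact hx h2
  have h2 : c (c x) ≠ c x := fun h => hx (c.injective h)
  refine hfree c hc {x, c x, c (c x)} ?_ (map_eq_of_forall ?_)
  · rw [Finset.card_insert_of_notMem, Finset.card_pair h2.symm]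
    rw [Finset.mem_insert, Finset.mem_singleton, not_or]
    exact ⟨hx.symm, h1.symm⟩
  · intro w hw
    rw [Finset.mem_insert, Finset.mem_insert, Finset.mem_singleton] at hw ⊢
    rcases hw with rfl | rfl | rfl
    · exact Or.inr (Or.inl rfl)
    · exact Or.inr (Or.inr rfl)
    · exact Or.inl (hc3 _)

/-- no element different from `1` fixes three points -/
theorem three_fixed (B : Subgroup (Perm Ω))
    (hfree : ∀ b ∈ B, ∀ s : Finset Ω, s.card = 3 → s.map b.toEmbedding = s → b = 1) {b : Perm Ω} (hb : b ∈ B)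
    {x y z : Ω} (hxy : x ≠ y) (hyz : y ≠ z) (hxz : x ≠ z) (h1 : b x = x) (h2 : b y = y) (h3 : b z = z) : b = 1 := by
  refine hfree b hb {x, y, z} ?_ (map_eq_of_forall ?_)
  · rw [Finset.card_insert_of_notMem, Finset.card_pair hyz]
    rw [Finset.mem_insert, Finset.mem_singleton, not_or]
    exact ⟨hxy, hxz⟩
  · intro w hw
    rw [Finset.mem_insert, Finset.mem_insert, Finset.mem_singleton] at hw ⊢
    rcases hw with rfl | rfl | rfl
    · exact Or.inl h1
    · exact Or.inr (Or.inl h2)
    · exact Or.inr (Or.inr h3)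

theorem even_of_invol {t : Perm Ω} (ht : ∀ x, t (t x) = x) (hfp : ∀ x, t x ≠ x) : Even (Fintype.card Ω) := by
  have h1 : t ^ (2 ^ 1) = 1 := by
    apply Equiv.ext
    intro x
    rw [pow_one, pow_two]
    exact ht x
  haveI : Fact (Nat.Prime 2) := ⟨Nat.prime_two⟩
  have h2 := Equiv.Perm.card_compl_support_modEq (p := 2) (n := 1) h1
  have h3 : t.supportᶜ = ∅ := by
    rw [Finset.eq_empty_iff_forall_notMem]
    intro x hx
    rw [Finset.mem_compl, Perm.mem_support] at hx
    exact hx (hfp x)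
  rw [h3, Finset.card_empty] at h2
  exact even_iff_two_dvd.2 ((Nat.modEq_zero_iff_dvd).1 h2.symm)

theorem six_choose (n : ℕ) : 6 * n.choose 3 = n * (n - 1) * (n - 2) := by
  have h := Nat.descFactorial_eq_factorial_mul_choose n 3
  rw [show Nat.factorial 3 = 6 from rfl] at h
  rw [← h, Nat.descFactorial_succ, Nat.descFactorial_succ, Nat.descFactorial_succ, Nat.descFactorial_zero]
  rw [Nat.sub_zero]
  ring

theorem pow_bound : ∀ j : ℕ, 6 ≤ j → 6 * j + 2 < 2 ^ j := by
  intro j hj
  induction j, hj using Nat.le_induction with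
  | base => norm_num
  | succ j hj ih => rw [pow_succ]; omega

theorem case_three (hm : 30 ≤ Fintype.card Ω) (B : Subgroup (Perm Ω))
    (hcard : Nat.card B = (Fintype.card Ω).choose 3)
    (hfree : ∀ b ∈ B, ∀ s : Finset Ω, s.card = 3 → s.map b.toEmbedding = s → b = 1)
    (hlarge : 3 * Nat.factorial 29 < Nat.card B) : False := by
  classical
  have htr := trans_of_free (by omega : 3 ≤ Fintype.card Ω) B hcard hfree
  have h2 : IsMultiplyPretransitive B Ω 2 := Cfsg.Agent.S0746.result B (k := 3) (by omega) (by omega) htr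
  have hGt : IsPretransitive B Ω := isPretransitive_of_is_two_pretransitive (h2 := h2)
  have ht : ∀ {a b c d : Ω}, a ≠ b → c ≠ d → ∃ g : B, g • a = c ∧ g • b = d :=
    (is_two_pretransitive_iff (G := B) (α := Ω)).1 h2
  obtain ⟨a, b, hab⟩ : ∃ x y : Ω, x ≠ y := Fintype.one_lt_card_iff.1 (by omega)
  have hno : ∀ t ∈ B, t ≠ 1 → (∀ x, t (t x) = x) → ∀ z, t z ≠ z := fun t htB ht1 ht z =>
    no_fixed (by omega : 3 ≤ Fintype.card Ω) B hfree htB ht1 ht z
  -- the degree is even
  have hev : Even (Fintype.card Ω) := by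
    obtain ⟨⟨c, hc⟩, h1, h2⟩ := ht hab hab.symm
    obtain ⟨n, hn1, hn⟩ := exists_invol hab h1 h2
    exact even_of_invol hn (hno _ (B.pow_mem hc n) hn1 hn)
  -- the point stabilisers have odd order
  have hodd : ∀ x : Ω, Odd (Nat.card (stabilizer B x)) := by
    intro x
    rw [← Nat.not_even_iff_odd]
    intro he
    haveI : Fact (Nat.Prime 2) := ⟨Nat.prime_two⟩
    obtain ⟨⟨⟨c, hc⟩, hcx⟩, ho⟩ := exists_prime_orderOf_dvd_card' (G := stabilizer B x) 2 he.two_dvd
    have hc2 : (⟨⟨c, hc⟩, hcx⟩ : stabilizer B x) ^ 2 = 1 := by rw [← ho, pow_orderOf_eq_one]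
    have hc2' : c ^ 2 = 1 := congrArg (fun g : stabilizer B x => ((g : B) : Perm Ω)) hc2
    refine hno c hc ?_ ?_ x hcx
    · rintro rfl
      have : orderOf (1 : stabilizer B x) = 2 := ho
      rw [orderOf_one] at this
      omega
    · intro w
      have h3 : (c ^ 2) w = w := by rw [hc2']; rfl
      exact h3
  -- the stabiliser of two points
  have hEcard := Cfsg.Agent.H968.TwoBasic.card_eq h2 hab
  have h6 : 6 * Nat.card ↥(stabilizer B a ⊓ stabilizer B b) = Fintype.card Ω - 2 := by
    have h3 := six_choose (Fintype.card Ω)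
    rw [← hcard, hEcard, Nat.card_eq_fintype_card (α := Ω)] at h3
    have hpos : 0 < Fintype.card Ω * (Fintype.card Ω - 1) := Nat.mul_pos (by omega) (by omega)
    apply Nat.eq_of_mul_eq_mul_left hpos
    rw [← h3]
    ring
  have hE5 : 1 < Nat.card ↥(stabilizer B a ⊓ stabilizer B b) := by omega
  have hoddE : Odd (Nat.card ↥(stabilizer B a ⊓ stabilizer B b)) :=
    (hodd a).of_dvd_nat (Subgroup.card_dvd_of_le inf_le_left)
  haveI hfaith : FaithfulSMul B Ω := inferInstance
  by_cases hreg : ∀ N : Subgroup B, N.Normal → IsPretransitive N Ω → ∃ a : Ω, stabilizer N a ≠ ⊥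
  · have hZ : Cfsg.IsZassenhausGroup B Ω := by
      refine ⟨hfaith, h2, ?_, ?_, hreg⟩
      · rintro ⟨g, hg⟩ x y z hxy hyz hxz h1 h2 h3
        exact Subtype.ext (three_fixed B hfree hg hxy hyz hxz h1 h2 h3)
      · haveI : Nontrivial ↥(stabilizer B a ⊓ stabilizer B b) := Finite.one_lt_card_iff_nontrivial.1 hE5
        obtain ⟨⟨g, hg⟩, hg1⟩ := exists_ne (1 : ↥(stabilizer B a ⊓ stabilizer B b))
        exact ⟨g, fun h => hg1 (Subtype.ext h), a, b, hab, hg.1, hg.2⟩
    obtain ⟨H, hHa, -, hHc, hHfix, -⟩ := Cfsg.Agent.LieExceptional.ZassenhausKernel.exists_kernel hZ a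
    rw [Nat.card_eq_fintype_card (α := Ω)] at hHc
    rcases Cfsg.Agent.S0885.result hZ hab (Fintype.card Ω - 1) (Nat.card ↥(stabilizer B a ⊓ stabilizer B b))
      (by omega) rfl hoddE H hHa hHc hHfix with h | ⟨h, -, -⟩
    · omega
    · haveI : Fact (Nat.Prime 2) := ⟨Nat.prime_two⟩
      obtain ⟨m, hm'⟩ := IsPGroup.iff_card.1 h
      rcases m with _ | m
      · rw [pow_zero] at hm'; omega
      · rw [pow_succ] at hm'
        obtain ⟨r, hr⟩ := hev
        omega
  · push Not at hreg
    obtain ⟨N, hNn, hNt, hNr⟩ := hreg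
    obtain ⟨j, hj, hdvd⟩ := regular_case (G := B) (Ω := Ω) h2 N hNt hNr hev (by omega) (not_three_dvd B hfree)
    have h1 : Nat.card ↥(stabilizer B a ⊓ stabilizer B b) ∣ j := by
      rw [hEcard, Nat.card_eq_fintype_card (α := Ω), hj] at hdvd
      have hpos : 0 < 2 ^ j * (2 ^ j - 1) := by
        rw [← hj]; exact Nat.mul_pos (by omega) (by omega)
      apply Nat.dvd_of_mul_dvd_mul_left hpos
      have h4 : 2 ^ j * (2 ^ j - 1) * j = 2 ^ j * (j * (2 ^ j - 1)) := by ring
      rw [h4]
      exact hdvd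
    have hj5 : j ≤ 5 := by
      by_contra hcon
      have h3 := pow_bound j (by omega)
      have h4 := Nat.le_of_dvd (by omega) h1
      omega
    have hle : 2 ^ j ≤ 2 ^ 5 := Nat.pow_le_pow_right (by norm_num) hj5
    have h32 : Nat.card B ≤ Nat.choose 32 3 := by
      rw [hcard, hj]
      exact Nat.choose_le_choose 3 hle
    have h7 : Nat.choose 32 3 = 4960 := by decide +kernel
    have h8 : Nat.factorial 8 ≤ Nat.factorial 29 := Nat.factorial_le (by norm_num)
    have h9 : Nat.factorial 8 = 40320 := by decide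
    omega

/-- S3691, alternating socle, Case I: `B` acts regularly on the `k`-subsets -/
theorem caseI (hm : 30 ≤ Fintype.card Ω) {k : ℕ} (hk2 : 2 ≤ k) (hk : 2 * k < Fintype.card Ω) (B : Subgroup (Perm Ω))
    (hcard : Nat.card B = (Fintype.card Ω).choose k)
    (hfree : ∀ b ∈ B, ∀ s : Finset Ω, s.card = k → s.map b.toEmbedding = s → b = 1)
    (hlarge : 3 * Nat.factorial 29 < Nat.card B) : Cfsg.Agent.H454.Reg.Concl B := by
  obtain rfl | rfl | h4 : k = 2 ∨ k = 3 ∨ 4 ≤ k := by omega
  · exact case_two hm B hcard hfree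
  · exact (case_three hm B hcard hfree hlarge).elim
  · exact (case_four h4 hk B hcard hfree).elim

end Cfsg.Agent.H430.Reg
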